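import Mathlib.RingTheory.Etale.StandardEtale
import Mathlib.RingTheory.RingHom.Etale
import Mathlib.RingTheory.RingHom.Finite
import Mathlib.RingTheory.AdjoinRoot
import Mathlib.Algebra.Polynomial.Expand

/-!
# A finite map from the semistable model to affine space (S14391)

For `C = V[x_0, …, x_{n-1}] / (x_0 ⋯ x_{r-1} - ϖ)` and an integer `q ≥ 1` divisible by `ϖ ^ 2` in
`V`, the map `φ : V[y_1, …, y_{n-1}] → C` with `y_i ↦ x_0 ^ q - x_i` for `0 < i < r` and
`y_i ↦ x_i` for `i ≥ r` is finite, and étale after inverting `ϖ γ` for a `γ ∈ 1 + ϖ C`.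
-/

set_option autoImplicit false
universe u

namespace K298.SemiAlg

noncomputable section

open Polynomial

variable (V : Type u) [CommRing V] (ϖ : V) (m r q : ℕ)

/-- The semistable algebra with variables indexed by `Fin (m + 1)`. -/
abbrev CC : Type u := MvPolynomial (Fin (m + 1)) V ⧸ Ideal.span
  {((Finset.univ.filter fun i : Fin (m + 1) => (i : ℕ) < r).prod fun i => MvPolynomial.X i) -
    MvPolynomial.C ϖ}

/-- The coordinates. -/
def x (i : Fin (m + 1)) : CC V ϖ m r := Ideal.Quotient.mk _ (MvPolynomial.X i)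

theorem prod_lt {M : Type u} [CommMonoid M] (f : Fin (m + 1) → M) (hr : 1 ≤ r) :
    ((Finset.univ.filter fun i : Fin (m + 1) => (i : ℕ) < r).prod f) =
      f 0 * ∏ j : Fin m, (if (j : ℕ) + 1 < r then f j.succ else 1) := by
  rw [Finset.prod_filter, Fin.prod_univ_succ]
  congr 1
  exact if_pos hr

theorem rel (hr : 1 ≤ r) :
    x V ϖ m r 0 * ∏ j : Fin m, (if (j : ℕ) + 1 < r then x V ϖ m r j.succ else 1) =
      algebraMap V (CC V ϖ m r) ϖ := by
  rw [← prod_lt m r (x V ϖ m r) hr]
  have h : (Ideal.Quotient.mk (Ideal.span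
      {((Finset.univ.filter fun i : Fin (m + 1) => (i : ℕ) < r).prod
        fun i => (MvPolynomial.X i : MvPolynomial (Fin (m + 1)) V)) - MvPolynomial.C ϖ}))
      (((Finset.univ.filter fun i : Fin (m + 1) => (i : ℕ) < r).prod
        fun i => (MvPolynomial.X i : MvPolynomial (Fin (m + 1)) V))) =
      (Ideal.Quotient.mk _) (MvPolynomial.C ϖ) :=
    Ideal.Quotient.eq.2 (Ideal.subset_span rfl)
  rw [map_prod] at h
  exact h

/-- The images of the coordinates of the affine space. -/
def yval (j : Fin m) : CC V ϖ m r :=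
  if (j : ℕ) + 1 < r then x V ϖ m r 0 ^ q - x V ϖ m r j.succ else x V ϖ m r j.succ

/-- The map from the polynomial ring in `m` variables. -/
def phi : MvPolynomial (Fin m) V →ₐ[V] CC V ϖ m r := MvPolynomial.aeval (yval V ϖ m r q)

/-- The product of the `T - Y_j`. -/
def hh : (MvPolynomial (Fin m) V)[X] :=
  ∏ j : Fin m, (if (j : ℕ) + 1 < r then X - C (MvPolynomial.X j) else 1)

/-- The polynomial of which `x 0` is the generic root. -/
def PP : (MvPolynomial (Fin m) V)[X] :=
  X * expand (MvPolynomial (Fin m) V) q (hh V m r) - C (MvPolynomial.C ϖ)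

theorem monic_hh : (hh V m r).Monic := by
  refine monic_prod_of_monic _ _ fun j _ => ?_
  split_ifs
  · exact monic_X_sub_C _
  · exact monic_one

variable {q} in
theorem monic_PP (hq : 0 < q) : (PP V ϖ m r q).Monic := by
  nontriviality V
  have h : (X * expand (MvPolynomial (Fin m) V) q (hh V m r)).Monic :=
    monic_X.mul ((monic_hh V m r).expand hq)
  refine h.sub_of_left ?_
  have h1 : (1 : WithBot ℕ) ≤ (X * expand (MvPolynomial (Fin m) V) q (hh V m r)).degree := by
    rw [((monic_hh V m r).expand hq).degree_mul, degree_X]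
    have h0 : (0 : WithBot ℕ) ≤ (expand (MvPolynomial (Fin m) V) q (hh V m r)).degree :=
      zero_le_degree_iff.2 ((monic_hh V m r).expand hq).ne_zero
    calc (1 : WithBot ℕ) = 1 + 0 := (add_zero _).symm
      _ ≤ _ := by gcongr
  exact lt_of_le_of_lt degree_C_le (lt_of_lt_of_le (by norm_num) h1)

section Alg

variable {R : Type u} [CommRing R] (g : MvPolynomial (Fin m) V →+* R) (t : R)

theorem eval₂_expand_hh : (expand (MvPolynomial (Fin m) V) q (hh V m r)).eval₂ g t =
    ∏ j : Fin m, (if (j : ℕ) + 1 < r then t ^ q - g (MvPolynomial.X j) else 1) := by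
  rw [hh, map_prod, eval₂_finsetProd]
  refine Finset.prod_congr rfl fun j _ => ?_
  split_ifs
  · simp
  · simp

theorem eval₂_PP : (PP V ϖ m r q).eval₂ g t =
    t * ∏ j : Fin m, (if (j : ℕ) + 1 < r then t ^ q - g (MvPolynomial.X j) else 1) -
      g (MvPolynomial.C ϖ) := by
  rw [PP, eval₂_sub, eval₂_mul, eval₂_X, eval₂_C, eval₂_expand_hh]

end Alg

theorem phi_X (j : Fin m) : phi V ϖ m r q (MvPolynomial.X j) = yval V ϖ m r q j := by
  rw [phi, MvPolynomial.aeval_X]

theorem phi_C (v : V) : phi V ϖ m r q (MvPolynomial.C v) = algebraMap V _ v := by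
  rw [phi, MvPolynomial.aeval_C]

theorem prod_eq : ∏ j : Fin m, (if (j : ℕ) + 1 < r then
      x V ϖ m r 0 ^ q - phi V ϖ m r q (MvPolynomial.X j) else 1) =
    ∏ j : Fin m, (if (j : ℕ) + 1 < r then x V ϖ m r j.succ else 1) := by
  refine Finset.prod_congr rfl fun j _ => ?_
  rw [phi_X, yval]
  split_ifs
  · ring
  · rfl

variable {r} in
theorem eval₂_PP_x (hr : 1 ≤ r) :
    (PP V ϖ m r q).eval₂ (phi V ϖ m r q : MvPolynomial (Fin m) V →+* CC V ϖ m r)
      (x V ϖ m r 0) = 0 := by
  rw [eval₂_PP]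
  erw [prod_eq]
  rw [rel V ϖ m r hr]
  exact sub_eq_zero.2 (phi_C V ϖ m r q ϖ).symm

section Map

variable {V ϖ m r q}
variable {R : Type u} [CommRing R]

/-- The images of the coordinates under the map to a ring with a root of `PP`. -/
def wval (g : MvPolynomial (Fin m) V →+* R) (t : R) : Fin (m + 1) → R :=
  Fin.cases t fun j => if (j : ℕ) + 1 < r then t ^ q - g (MvPolynomial.X j)
    else g (MvPolynomial.X j)

theorem wval_rel (hr : 1 ≤ r) (g : MvPolynomial (Fin m) V →+* R) (t : R)
    (h : (PP V ϖ m r q).eval₂ g t = 0) :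
    MvPolynomial.eval₂Hom (g.comp MvPolynomial.C) (wval (r := r) (q := q) g t)
      (((Finset.univ.filter fun i : Fin (m + 1) => (i : ℕ) < r).prod
        fun i => (MvPolynomial.X i : MvPolynomial (Fin (m + 1)) V)) - MvPolynomial.C ϖ) = 0 := by
  rw [map_sub, map_prod, prod_lt m r _ hr]
  simp only [MvPolynomial.eval₂Hom_X', MvPolynomial.eval₂Hom_C]
  rw [eval₂_PP] at h
  refine Eq.trans ?_ h
  congr 1
  change t * _ = t * _
  congr 1
  refine Finset.prod_congr rfl fun j _ => ?_
  change (if (j : ℕ) + 1 < r then (if (j : ℕ) + 1 < r then t ^ q - g (MvPolynomial.X j)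
    else g (MvPolynomial.X j)) else 1) = _
  split_ifs <;> rfl

/-- The map out of the semistable algebra given by a root of `PP`. -/
def toR (hr : 1 ≤ r) (g : MvPolynomial (Fin m) V →+* R) (t : R)
    (h : (PP V ϖ m r q).eval₂ g t = 0) : CC V ϖ m r →+* R :=
  Ideal.Quotient.lift _ (MvPolynomial.eval₂Hom (g.comp MvPolynomial.C) (wval (r := r) (q := q) g t))
    (by
      intro a ha
      obtain ⟨b, rfl⟩ := Ideal.mem_span_singleton'.1 ha
      rw [map_mul, wval_rel hr g t h, mul_zero])

theorem toR_x (hr : 1 ≤ r) (g : MvPolynomial (Fin m) V →+* R) (t : R)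
    (h : (PP V ϖ m r q).eval₂ g t = 0) (i : Fin (m + 1)) :
    toR hr g t h (x V ϖ m r i) = wval (r := r) (q := q) g t i := by
  rw [toR, x, Ideal.Quotient.lift_mk, MvPolynomial.eval₂Hom_X']

theorem toR_C (hr : 1 ≤ r) (g : MvPolynomial (Fin m) V →+* R) (t : R)
    (h : (PP V ϖ m r q).eval₂ g t = 0) (v : V) :
    toR hr g t h (algebraMap V _ v) = g (MvPolynomial.C v) := by
  change toR hr g t h (Ideal.Quotient.mk _ (MvPolynomial.C v)) = _
  rw [toR, Ideal.Quotient.lift_mk, MvPolynomial.eval₂Hom_C]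
  rfl

theorem toR_comp_phi (hr : 1 ≤ r) (g : MvPolynomial (Fin m) V →+* R) (t : R)
    (h : (PP V ϖ m r q).eval₂ g t = 0) :
    (toR hr g t h).comp (phi V ϖ m r q : MvPolynomial (Fin m) V →+* CC V ϖ m r) = g := by
  refine MvPolynomial.ringHom_ext (fun v => ?_) fun j => ?_
  · refine (congrArg (toR hr g t h) (phi_C V ϖ m r q v)).trans (toR_C hr g t h v)
  · refine (congrArg (toR hr g t h) (phi_X V ϖ m r q j)).trans ?_
    rw [yval]
    split_ifs with hj
    · rw [map_sub, map_pow, toR_x, toR_x]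
      change t ^ q - (if (j : ℕ) + 1 < r then t ^ q - g (MvPolynomial.X j)
        else g (MvPolynomial.X j)) = _
      rw [if_pos hj, sub_sub_cancel]
    · rw [toR_x]
      exact if_neg hj

/-- Ring maps out of the semistable algebra are determined on the polynomial ring and `x 0`. -/
theorem hom_ext (k k' : CC V ϖ m r →+* R)
    (h : k.comp (phi V ϖ m r q : MvPolynomial (Fin m) V →+* CC V ϖ m r) =
      k'.comp (phi V ϖ m r q : MvPolynomial (Fin m) V →+* CC V ϖ m r))
    (h0 : k (x V ϖ m r 0) = k' (x V ϖ m r 0)) : k = k' := by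
  refine Ideal.Quotient.ringHom_ext (MvPolynomial.ringHom_ext (fun v => ?_) fun i => ?_)
  · have := RingHom.congr_fun h (MvPolynomial.C v)
    change k (phi V ϖ m r q (MvPolynomial.C v)) = k' (phi V ϖ m r q (MvPolynomial.C v)) at this
    rw [phi_C] at this
    exact this
  · change k (x V ϖ m r i) = k' (x V ϖ m r i)
    induction i using Fin.cases with
    | zero => exact h0
    | succ j =>
      have := RingHom.congr_fun h (MvPolynomial.X j)
      change k (phi V ϖ m r q (MvPolynomial.X j)) = k' (phi V ϖ m r q (MvPolynomial.X j)) at this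
      rw [phi_X, yval] at this
      split_ifs at this with hj
      · rw [map_sub, map_sub, map_pow, map_pow, h0] at this
        exact sub_right_injective this
      · exact this

end Map

variable {r q} in
theorem phi_finite (hr : 1 ≤ r) (hq : 0 < q) :
    (phi V ϖ m r q : MvPolynomial (Fin m) V →+* CC V ϖ m r).Finite := by
  let l : AdjoinRoot (PP V ϖ m r q) →+* CC V ϖ m r :=
    AdjoinRoot.lift (phi V ϖ m r q : MvPolynomial (Fin m) V →+* CC V ϖ m r) (x V ϖ m r 0)
      (eval₂_PP_x V ϖ m q hr)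
  let s : CC V ϖ m r →+* AdjoinRoot (PP V ϖ m r q) :=
    toR hr (AdjoinRoot.of _) (AdjoinRoot.root _) (AdjoinRoot.eval₂_root _)
  have h0 : l.comp (AdjoinRoot.of _) = (phi V ϖ m r q : MvPolynomial (Fin m) V →+* CC V ϖ m r) :=
    RingHom.ext fun a => AdjoinRoot.lift_of (eval₂_PP_x V ϖ m q hr)
  have hls : l.comp s = RingHom.id _ := by
    refine hom_ext (q := q) _ _ ?_ ?_
    · rw [RingHom.comp_assoc, toR_comp_phi, h0, RingHom.id_comp]
    · change l (s (x V ϖ m r 0)) = x V ϖ m r 0
      rw [show s (x V ϖ m r 0) = AdjoinRoot.root _ from toR_x hr _ _ _ 0]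
      exact AdjoinRoot.lift_root (eval₂_PP_x V ϖ m q hr)
  have h1 : (AdjoinRoot.of (PP V ϖ m r q)).Finite :=
    RingHom.finite_algebraMap.2 (monic_PP V ϖ m r hq).finite_adjoinRoot
  have h2 : l.Finite := RingHom.Finite.of_surjective _ fun a => ⟨s a, RingHom.congr_fun hls a⟩
  rw [← h0]
  exact h2.comp h1

theorem away_lift {B R L : Type u} [CommRing B] [CommRing R] [CommRing L] [Algebra B L]
    (t : B) [IsLocalization.Away t L] (k : B →+* R) (hu : IsUnit (k t)) :
    ∃ β : L →+* R, β.comp (algebraMap B L) = k :=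
  ⟨IsLocalization.Away.lift t hu, RingHom.ext fun b => IsLocalization.Away.lift_eq _ hu b⟩

/-- A ring with the universal property of `A[T] / P` is étale over `A` away from `P'`. -/
theorem etale_away' {A B L : Type u} [CommRing A] [CommRing B] [CommRing L]
    [Algebra A B] [Algebra B L] [Algebra A L] [IsScalarTower A B L] (Q : StandardEtalePair A)
    (t : B) (h0 : aeval t Q.f = 0) [IsLocalization.Away (aeval t Q.g) L]
    (univ : ∀ (R : Type u) [CommRing R] (g' : A →+* R) (s : R), Q.f.eval₂ g' s = 0 →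
      ∃ k : B →+* R, k.comp (algebraMap A B) = g' ∧ k t = s)
    (ext : ∀ (R : Type u) [CommRing R] (k k' : B →+* R),
      k.comp (algebraMap A B) = k'.comp (algebraMap A B) → k t = k' t → k = k') :
    Algebra.Etale A L := by
  have hmap : Q.HasMap (algebraMap B L t) := by
    constructor
    · rw [aeval_algebraMap_apply, h0, map_zero]
    · rw [aeval_algebraMap_apply]
      exact IsLocalization.Away.algebraMap_isUnit _
  have e : Q.f.eval₂ (algebraMap A Q.Ring) Q.X = 0 := by
    rw [← aeval_def]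
    exact (StandardEtalePair.hasMap_X (P := Q)).1
  obtain ⟨k, hk, hkt⟩ := univ Q.Ring (algebraMap A Q.Ring) Q.X e
  have hu : IsUnit (k (aeval t Q.g)) := by
    rw [aeval_def, hom_eval₂, hk, hkt, ← aeval_def]
    exact (StandardEtalePair.hasMap_X (P := Q)).2
  obtain ⟨β, hβ⟩ := away_lift (L := L) _ k hu
  let β' : L →ₐ[A] Q.Ring := { β with
    commutes' := fun a => by
      change β (algebraMap A L a) = _
      rw [IsScalarTower.algebraMap_apply A B L, ← hk, ← hβ]
      rfl }
  have h1 : (Q.lift _ hmap).comp β' = AlgHom.id A L := by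
    have h2 : (Q.lift _ hmap : Q.Ring →+* L).comp k = algebraMap B L := by
      have h3 : ((Q.lift _ hmap : Q.Ring →+* L).comp k).comp (algebraMap A B) =
          (algebraMap B L).comp (algebraMap A B) := by
        rw [RingHom.comp_assoc, hk, ← IsScalarTower.algebraMap_eq]
        exact RingHom.ext fun a => (Q.lift _ hmap).commutes a
      have h4 : ((Q.lift _ hmap : Q.Ring →+* L).comp k) t = algebraMap B L t := by
        change Q.lift _ hmap (k t) = _
        rw [hkt, StandardEtalePair.lift_X]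
      exact ext L _ _ h3 h4
    refine AlgHom.coe_ringHom_injective ?_
    refine IsLocalization.ringHom_ext (Submonoid.powers (aeval t Q.g)) ?_
    refine RingHom.ext fun b => ?_
    change Q.lift _ hmap (β (algebraMap B L b)) = algebraMap B L b
    rw [show β (algebraMap B L b) = k b from RingHom.congr_fun hβ b]
    exact RingHom.congr_fun h2 b
  have h2 : β'.comp (Q.lift _ hmap) = AlgHom.id A Q.Ring := by
    refine StandardEtalePair.hom_ext ?_
    change β (Q.lift _ hmap Q.X) = Q.X
    rw [StandardEtalePair.lift_X, ← hkt]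
    exact RingHom.congr_fun hβ t
  exact Algebra.Etale.of_equiv (AlgEquiv.ofAlgHom (Q.lift _ hmap) β' h1 h2)

theorem etale_away {A B : Type u} [CommRing A] [CommRing B] (g : A →+* B) (t : B) (P : A[X])
    (hP : P.Monic) (h0 : P.eval₂ g t = 0)
    (univ : ∀ (R : Type u) [CommRing R] (g' : A →+* R) (s : R), P.eval₂ g' s = 0 →
      ∃ k : B →+* R, k.comp g = g' ∧ k t = s)
    (ext : ∀ (R : Type u) [CommRing R] (k k' : B →+* R), k.comp g = k'.comp g → k t = k' t →
      k = k') :
    ((algebraMap B (Localization.Away ((derivative P).eval₂ g t))).comp g).Etale := by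
  let _ : Algebra A B := g.toAlgebra
  let Q : StandardEtalePair A := ⟨P, hP, derivative P, 1, 0, 1, by simp⟩
  have hL : IsLocalization.Away (aeval t Q.g)
      (Localization.Away ((derivative P).eval₂ g t)) := Localization.isLocalization
  have := etale_away' (A := A) (B := B) (L := Localization.Away ((derivative P).eval₂ g t))
    Q t h0 univ ext
  exact RingHom.etale_algebraMap.2 this

/-- The element of which the nonvanishing locus is the étale locus. -/
def zz : CC V ϖ m r := (derivative (PP V ϖ m r q)).eval₂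
  (phi V ϖ m r q : MvPolynomial (Fin m) V →+* CC V ϖ m r) (x V ϖ m r 0)

variable {r q} in
theorem phi_etale (hr : 1 ≤ r) (hq : 0 < q) :
    ((algebraMap (CC V ϖ m r) (Localization.Away (zz V ϖ m r q))).comp
      (phi V ϖ m r q : MvPolynomial (Fin m) V →+* CC V ϖ m r)).Etale :=
  etale_away _ _ (PP V ϖ m r q) (monic_PP V ϖ m r hq) (eval₂_PP_x V ϖ m q hr)
    (fun _ _ g s hs => ⟨toR hr g s hs, toR_comp_phi hr g s hs, toR_x hr g s hs 0⟩)
    (fun _ _ k k' h h0 => hom_ext (q := q) k k' h h0)

variable {r q} in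
theorem x_mul_zz (hr : 1 ≤ r) : ∃ s : CC V ϖ m r,
    x V ϖ m r 0 * zz V ϖ m r q = algebraMap V _ ϖ + algebraMap V _ (q : V) * s := by
  have h1 : derivative (PP V ϖ m r q) = expand (MvPolynomial (Fin m) V) q (hh V m r) +
      X * (expand (MvPolynomial (Fin m) V) q (derivative (hh V m r)) *
        ((q : (MvPolynomial (Fin m) V)[X]) * X ^ (q - 1))) := by
    rw [PP, derivative_sub, derivative_C, sub_zero, derivative_mul, derivative_X, one_mul,
      derivative_expand]
  refine ⟨x V ϖ m r 0 * (x V ϖ m r 0 * ((expand (MvPolynomial (Fin m) V) q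
    (derivative (hh V m r))).eval₂ (phi V ϖ m r q : MvPolynomial (Fin m) V →+* CC V ϖ m r)
      (x V ϖ m r 0) * (x V ϖ m r 0) ^ (q - 1))), ?_⟩
  rw [zz, h1, eval₂_add, eval₂_mul, eval₂_mul, eval₂_mul, eval₂_X, eval₂_X_pow, eval₂_natCast,
    eval₂_expand_hh]
  erw [prod_eq]
  rw [mul_add, rel V ϖ m r hr, map_natCast]
  ring

/-- The finite map from the semistable algebra to a polynomial ring. -/
theorem exists_map (n : ℕ) (hr : 1 ≤ r ∧ r ≤ n) (hq : 0 < q) (v : V)
    (hv : (q : V) = ϖ * (ϖ * v)) :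
    ∃ (m : ℕ) (φ : MvPolynomial (Fin m) V →+* (MvPolynomial (Fin n) V ⧸ Ideal.span
        {((Finset.univ.filter fun i : Fin n => (i : ℕ) < r).prod fun i => MvPolynomial.X i) -
          MvPolynomial.C ϖ}))
      (z δ : MvPolynomial (Fin n) V ⧸ Ideal.span
        {((Finset.univ.filter fun i : Fin n => (i : ℕ) < r).prod fun i => MvPolynomial.X i) -
          MvPolynomial.C ϖ}),
      φ.comp (algebraMap V _) = algebraMap V _ ∧ φ.Finite ∧
      ((algebraMap _ (Localization.Away z)).comp φ).Etale ∧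
      z ∣ algebraMap V _ ϖ * (1 + algebraMap V _ ϖ * δ) := by
  obtain ⟨k, rfl⟩ : ∃ k, n = k + 1 := ⟨n - 1, by omega⟩
  obtain ⟨s, hs⟩ := x_mul_zz V ϖ k (q := q) hr.1
  refine ⟨k, (phi V ϖ k r q : MvPolynomial (Fin k) V →+* CC V ϖ k r), zz V ϖ k r q,
    algebraMap V _ v * s, ?_, phi_finite V ϖ k hr.1 hq, phi_etale V ϖ k hr.1 hq,
    ⟨x V ϖ k r 0, ?_⟩⟩
  · exact RingHom.ext fun v => phi_C V ϖ k r q v
  · rw [mul_comm (zz V ϖ k r q), hs, hv, map_mul, map_mul]
    ring

end

end K298.SemiAlg
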