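import Mathlib.AlgebraicGeometry.ZariskisMainTheorem
import Mathlib.RingTheory.Unramified.LocalStructure

/-!
# Étale neighbourhoods finite over a smooth scheme (S14391)

If `C0 → A0` is finite over `S` and étale over an open `D` of `S` near the points over `s0`, then
every étale `U0 → C0` has étale neighbourhoods which, over `D`, are finite étale over opens of a
smooth `S`-scheme.
-/

set_option autoImplicit false
universe u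

open CategoryTheory Limits AlgebraicGeometry

namespace K298.SemiGeo

theorem locallyQuasiFinite_of_etale {X Y : Scheme.{u}} (f : X ⟶ Y) [AlgebraicGeometry.Etale f] :
    LocallyQuasiFinite f where
  quasiFinite_appLE {U} hU {V} hV e := by
    have h := HasRingHomProperty.appLE @AlgebraicGeometry.Etale f ‹_› ⟨U, hU⟩ ⟨V, hV⟩ e
    algebraize [(f.appLE U V e).hom]
    change Algebra.QuasiFinite Γ(Y, U) Γ(X, V)
    infer_instance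

/-- The part over `D` of the chart is finite étale over the part over `D` of the open. -/
theorem chart_aux {S C0 A0 V1 W0 : Scheme.{u}} (pA : A0 ⟶ S) (φ : C0 ⟶ A0) (D : S.Opens)
    (G N : C0.Opens) (hN : Etale (N.ι ≫ φ)) (hGN : G ⊓ (φ ≫ pA) ⁻¹ᵁ D ≤ N)
    (F : V1 ⟶ W0) [IsFinite F] (g : W0 ⟶ A0) [Etale g] (k : V1 ⟶ C0) [Etale k]
    (hk : k ≫ φ = F ≫ g) (Y' : W0.Opens) (hY : ∀ t : V1, F t ∈ Y' → k t ∈ G)
    (W : Y'.toScheme.Opens) (U' : V1.Opens) (hU' : U' = F ⁻¹ᵁ (Y'.ι ''ᵁ W))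
    (pU : U'.toScheme ⟶ S) (hpU : pU = U'.ι ≫ k ≫ φ ≫ pA) :
    ∃ f : ↑(pU ⁻¹ᵁ D) ⟶ ↑(W ⊓ (Y'.ι ≫ g ≫ pA) ⁻¹ᵁ D), IsFinite f ∧ Etale f := by
  subst hpU hU'
  let i1 : ↑(((F ⁻¹ᵁ (Y'.ι ''ᵁ W)).ι ≫ k ≫ φ ≫ pA) ⁻¹ᵁ D) ⟶ V1 :=
    Scheme.Opens.ι _ ≫ Scheme.Opens.ι _
  let i2 : ↑(W ⊓ (Y'.ι ≫ g ≫ pA) ⁻¹ᵁ D) ⟶ W0 := Scheme.Opens.ι _ ≫ Scheme.Opens.ι _
  have hpt : ∀ t : V1, pA (φ (k t)) = pA (g (F t)) := fun t => by
    have := congr(pA ($hk t))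
    simpa using this
  have e1 : ∀ t : V1, t ∈ i1.opensRange ↔ F t ∈ Y'.ι ''ᵁ W ∧ pA (φ (k t)) ∈ D := by
    intro t
    constructor
    · rintro ⟨s, rfl⟩
      exact ⟨s.1.2, s.2⟩
    · rintro ⟨h1, h2⟩
      exact ⟨⟨⟨t, h1⟩, h2⟩, rfl⟩
  have e2 : ∀ w : W0, w ∈ i2.opensRange ↔ w ∈ Y'.ι ''ᵁ W ∧ pA (g w) ∈ D := by
    intro w
    constructor
    · rintro ⟨s, rfl⟩
      exact ⟨⟨s.1, s.2.1, rfl⟩, s.2.2⟩
    · rintro ⟨⟨s, hs, rfl⟩, h2⟩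
      exact ⟨⟨s, hs, h2⟩, rfl⟩
  have e3 : F ⁻¹ᵁ i2.opensRange = i1.opensRange := by
    ext t
    change F t ∈ i2.opensRange ↔ t ∈ i1.opensRange
    rw [e1, e2, hpt]
  have e4 : Set.range (i1 ≫ F) ⊆ Set.range i2 := by
    rintro _ ⟨s, rfl⟩
    have : i1 s ∈ F ⁻¹ᵁ i2.opensRange := e3 ▸ ⟨s, rfl⟩
    exact this
  let f := IsOpenImmersion.lift i2 (i1 ≫ F) e4
  have hf : f ≫ i2 = i1 ≫ F := IsOpenImmersion.lift_fac _ _ _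
  have hpb : IsPullback f i1 i2 F := IsOpenImmersion.isPullback f i1 i2 F hf.symm e3
  refine ⟨f, MorphismProperty.of_isPullback hpb.flip ‹_›, ?_⟩
  have e5 : Set.range (i1 ≫ k) ⊆ Set.range N.ι := by
    rintro _ ⟨s, rfl⟩
    rw [Scheme.Opens.range_ι]
    have h6 := (e1 (i1 s)).1 ⟨s, rfl⟩
    have h8 : F (i1 s) ∈ Y' := by
      obtain ⟨y, -, hy⟩ := h6.1
      rw [← hy]
      exact y.2
    exact hGN ⟨hY (i1 s) h8, h6.2⟩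
  let l := IsOpenImmersion.lift N.ι (i1 ≫ k) e5
  have hl : l ≫ N.ι = i1 ≫ k := IsOpenImmersion.lift_fac _ _ _
  have : Etale (l ≫ N.ι) := hl ▸ inferInstance
  have : Etale l := Etale.of_comp l N.ι
  have h7 : f ≫ i2 ≫ g = l ≫ N.ι ≫ φ := by
    rw [reassoc_of% hf, reassoc_of% hl, hk]
  have : Etale (f ≫ i2 ≫ g) := h7 ▸ inferInstance
  exact Etale.of_comp f (i2 ≫ g)

/-- The chart around a point over `s0`. -/
theorem exists_chart {S C0 A0 U0 : Scheme.{u}} [IsAffine A0] (pA : A0 ⟶ S) [Smooth pA]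
    (φ : C0 ⟶ A0) [IsFinite φ] (D : S.Opens) (s0 : S) (G N : C0.Opens) (hN : Etale (N.ι ≫ φ))
    (hGN : G ⊓ (φ ≫ pA) ⁻¹ᵁ D ≤ N) (hG : ∀ c : C0, (φ ≫ pA) c = s0 → c ∈ G)
    (c : U0 ⟶ C0) [Etale c] (u0 : U0) (hu0 : (c ≫ φ ≫ pA) u0 = s0) :
    ∃ (Y : Scheme.{u}) (pY : Y ⟶ S) (y : Y), IsAffine Y ∧ Smooth pY ∧
      ∀ W : Y.Opens, y ∈ W → ∃ (U : Scheme.{u}) (e : U ⟶ U0), Etale e ∧ u0 ∈ Set.range e ∧
        ∀ pU : U ⟶ S, pU = e ≫ c ≫ φ ≫ pA →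
          ∃ f : ↑(pU ⁻¹ᵁ D) ⟶ ↑(W ⊓ pY ⁻¹ᵁ D), IsFinite f ∧ Etale f := by
  obtain ⟨V0, hV0, hu0V, -⟩ := exists_isAffineOpen_mem_and_subset (x := u0) (U := ⊤) trivial
  have : IsAffine V0.toScheme := hV0
  let h : V0.toScheme ⟶ A0 := V0.ι ≫ c ≫ φ
  have : LocallyQuasiFinite (V0.ι ≫ c) := locallyQuasiFinite_of_etale _
  have : LocallyQuasiFinite h := by
    have : h = (V0.ι ≫ c) ≫ φ := (Category.assoc _ _ _).symm
    rw [this]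
    infer_instance
  obtain ⟨W0, g, hg, -, V', Wc, v, hVW, hfin, hv⟩ :=
    exists_etale_isCompl_of_quasiFiniteAt h (x := ⟨u0, hu0V⟩) rfl (h.quasiFiniteAt ⟨u0, hu0V⟩)
  let F : V'.toScheme ⟶ W0 := V'.ι ≫ pullback.snd h g
  let b : V'.toScheme ⟶ U0 := V'.ι ≫ pullback.fst h g ≫ V0.ι
  have hb : b v = u0 := by
    change V0.ι (pullback.fst h g v.1) = u0
    rw [hv]
    rfl
  have hk : (b ≫ c) ≫ φ = F ≫ g := by
    simp only [F, b, Category.assoc]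
    rw [← pullback.condition]
  have hpt : ∀ t : V', (φ ≫ pA) ((b ≫ c) t) = pA (g (F t)) := fun t => by
    have := congr(pA ($hk t))
    simpa using this
  have hcl : IsClosed (F '' (((b ≫ c) ⁻¹ᵁ G : V'.toScheme.Opens) : Set V')ᶜ) :=
    F.isClosedMap _ (((b ≫ c) ⁻¹ᵁ G).2.isClosed_compl)
  have hw0 : F v ∉ F '' (((b ≫ c) ⁻¹ᵁ G : V'.toScheme.Opens) : Set V')ᶜ := by
    rintro ⟨t, ht, hte⟩
    refine ht (hG _ ?_)
    rw [hpt, hte, ← hpt, ← hu0, ← hb]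
    rfl
  obtain ⟨Y', hY', hwY, hYO⟩ := exists_isAffineOpen_mem_and_subset (x := F v)
    (U := ⟨_, hcl.isOpen_compl⟩) hw0
  refine ⟨Y'.toScheme, Y'.ι ≫ g ≫ pA, ⟨F v, hwY⟩, hY', inferInstance, fun W hW => ?_⟩
  refine ⟨(F ⁻¹ᵁ (Y'.ι ''ᵁ W)).toScheme, Scheme.Opens.ι _ ≫ b, inferInstance,
    ⟨⟨v, ⟨⟨F v, hwY⟩, hW, rfl⟩⟩, hb⟩, fun pU hpU => ?_⟩
  refine chart_aux pA φ D G N hN hGN F g (b ≫ c) hk Y' (fun t ht => ?_) W _ rfl pU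
    (by rw [hpU]; simp only [Category.assoc])
  by_contra hc
  exact hYO ht ⟨t, hc, rfl⟩

end K298.SemiGeo
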