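import Groth.Agent.EtCoh.K298.SemiAlg
import Groth.Agent.EtCoh.K298.SemiGeo

/-!
# Charts of semistable schemes (S14391)
-/

set_option autoImplicit false
universe u

open CategoryTheory Limits AlgebraicGeometry

namespace K298.SemiPi

theorem etale_basicOpen {A C : Type u} [CommRing A] [CommRing C] (φ : A →+* C) (z : C)
    (h : ((algebraMap C (Localization.Away z)).comp φ).Etale) :
    Etale (Scheme.Opens.ι (X := Spec (CommRingCat.of C)) (PrimeSpectrum.basicOpen z) ≫
      Spec.map (CommRingCat.ofHom φ)) := by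
  let j : Spec (CommRingCat.of (Localization.Away z)) ⟶ Spec (CommRingCat.of C) :=
    Spec.map (CommRingCat.ofHom (algebraMap C (Localization.Away z)))
  have hj : IsOpenImmersion j := inferInstance
  have h1 : Etale (j ≫ Spec.map (CommRingCat.ofHom φ)) := by
    rw [← Spec.map_comp]
    exact HasRingHomProperty.Spec_iff.mpr h
  have hr : Set.range (Scheme.Opens.ι (X := Spec (CommRingCat.of C)) (PrimeSpectrum.basicOpen z)) =
      Set.range j := by
    rw [Scheme.Opens.range_ι]
    exact (PrimeSpectrum.localization_away_comap_range _ z).symm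
  have h2 := IsOpenImmersion.isoOfRangeEq_hom_fac
    (Scheme.Opens.ι (X := Spec (CommRingCat.of C)) (PrimeSpectrum.basicOpen z)) j hr
  rw [← h2, Category.assoc]
  infer_instance

theorem smooth_mvPolynomial (V : Type u) [CommRing V] (m : ℕ) :
    Smooth (Spec.map (CommRingCat.ofHom (algebraMap V (MvPolynomial (Fin m) V)))) := by
  refine HasRingHomProperty.Spec_iff.mpr ?_
  change (algebraMap V (MvPolynomial (Fin m) V)).Smooth
  rw [RingHom.smooth_algebraMap]
  exact ⟨inferInstance, inferInstance⟩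

/-- Charts of semistable schemes around points of the closed fibre. -/
theorem exists_chart (V : Type u) [CommRing V] [IsLocalRing V] (ϖ : V)
    (hϖ : ϖ ∈ IsLocalRing.maximalIdeal V) (r q n : ℕ) (hr : 1 ≤ r ∧ r ≤ n) (hq : 0 < q) (v : V)
    (hv : (q : V) = ϖ * (ϖ * v)) {U0 : Scheme.{u}}
    (c : U0 ⟶ Spec (CommRingCat.of (MvPolynomial (Fin n) V ⧸ Ideal.span
        {((Finset.univ.filter fun i : Fin n => (i : ℕ) < r).prod fun i => MvPolynomial.X i) -
          MvPolynomial.C ϖ}))) [Etale c] (u0 : U0)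
    (hu0 : (c ≫ Spec.map (CommRingCat.ofHom (algebraMap V _))) u0 = IsLocalRing.closedPoint V) :
    ∃ (Y : Scheme.{u}) (pY : Y ⟶ Spec (CommRingCat.of V)) (y : Y), IsAffine Y ∧ Smooth pY ∧
      ∀ W : Y.Opens, y ∈ W → ∃ (U : Scheme.{u}) (e : U ⟶ U0), Etale e ∧ u0 ∈ Set.range e ∧
        ∀ pU : U ⟶ Spec (CommRingCat.of V),
          pU = e ≫ c ≫ Spec.map (CommRingCat.ofHom (algebraMap V _)) →
          ∃ f : ↑(pU ⁻¹ᵁ (PrimeSpectrum.basicOpen ϖ : (Spec (CommRingCat.of V)).Opens)) ⟶
            ↑(W ⊓ pY ⁻¹ᵁ (PrimeSpectrum.basicOpen ϖ : (Spec (CommRingCat.of V)).Opens)),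
            IsFinite f ∧ Etale f := by
  obtain ⟨m, φ, z, δ, hφV, hφfin, hφet, hz⟩ := K298.SemiAlg.exists_map V ϖ r q n hr hq v hv
  have := smooth_mvPolynomial V m
  have : IsFinite (Spec.map (CommRingCat.ofHom φ)) := (IsFinite.SpecMap_iff _).2 hφfin
  have hcomp : Spec.map (CommRingCat.ofHom φ) ≫
      Spec.map (CommRingCat.ofHom (algebraMap V (MvPolynomial (Fin m) V))) =
      Spec.map (CommRingCat.ofHom (algebraMap V _)) := by
    rw [← Spec.map_comp, ← CommRingCat.ofHom_comp, hφV]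
  have hGN : (PrimeSpectrum.basicOpen (1 + algebraMap V _ ϖ * δ) :
      (Spec (CommRingCat.of (MvPolynomial (Fin n) V ⧸ Ideal.span
        {((Finset.univ.filter fun i : Fin n => (i : ℕ) < r).prod fun i => MvPolynomial.X i) -
          MvPolynomial.C ϖ}))).Opens) ⊓ (Spec.map (CommRingCat.ofHom φ) ≫
      Spec.map (CommRingCat.ofHom (algebraMap V (MvPolynomial (Fin m) V)))) ⁻¹ᵁ
        (PrimeSpectrum.basicOpen ϖ) ≤ PrimeSpectrum.basicOpen z := by
    rw [hcomp]
    rintro t ⟨ht1, ht2⟩ htz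
    have h4 : algebraMap V _ ϖ * (1 + algebraMap V _ ϖ * δ) ∈ t.asIdeal :=
      Ideal.mem_of_dvd _ hz htz
    exact (t.isPrime.mem_or_mem h4).elim ht2 ht1
  have hG : ∀ t : Spec (CommRingCat.of (MvPolynomial (Fin n) V ⧸ Ideal.span
        {((Finset.univ.filter fun i : Fin n => (i : ℕ) < r).prod fun i => MvPolynomial.X i) -
          MvPolynomial.C ϖ})), (Spec.map (CommRingCat.ofHom φ) ≫
      Spec.map (CommRingCat.ofHom (algebraMap V (MvPolynomial (Fin m) V)))) t =
        IsLocalRing.closedPoint V → t ∈ PrimeSpectrum.basicOpen (1 + algebraMap V _ ϖ * δ) := by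
    rw [hcomp]
    intro t ht h4
    have h5 : algebraMap V _ ϖ ∈ t.asIdeal := by
      have : ϖ ∈ ((Spec.map (CommRingCat.ofHom (algebraMap V _))) t).asIdeal := by
        rw [ht]
        exact hϖ
      exact this
    have h6 : (1 : _) ∈ t.asIdeal := by
      have := t.asIdeal.sub_mem h4 (t.asIdeal.mul_mem_right δ h5)
      rwa [add_sub_cancel_right] at this
    exact t.isPrime.one_notMem h6
  obtain ⟨Y, pY, y, h1, h2, h3⟩ := K298.SemiGeo.exists_chart
    (Spec.map (CommRingCat.ofHom (algebraMap V (MvPolynomial (Fin m) V))))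
    (Spec.map (CommRingCat.ofHom φ)) (PrimeSpectrum.basicOpen ϖ) (IsLocalRing.closedPoint V)
    (PrimeSpectrum.basicOpen (1 + algebraMap V _ ϖ * δ)) (PrimeSpectrum.basicOpen z)
    (etale_basicOpen φ z hφet) hGN hG c u0 (by rw [hcomp]; exact hu0)
  refine ⟨Y, pY, y, h1, h2, ?_⟩
  rw [hcomp] at h3
  exact h3

end K298.SemiPi
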